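import Mathlib

/-!
Groups of order 320 with derived subgroup of order 64 having Klein four centre: generators and
relations, and uniqueness up to isomorphism.
-/

set_option autoImplicit false
set_option linter.unusedSectionVars false

namespace Cfsg.Agent.Order320

open scoped commutatorElement

/-! ### Bits and the rewriting function -/

/-- `x` or `1`. -/
def pw {G : Type*} [Group G] (b : Bool) (x : G) : G := if b then x else 1

/-- Normal form parameters: four bits for the generators and two for the centre. -/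
abbrev Par := (Bool × Bool × Bool × Bool) × (Bool × Bool)

/-- Right multiplication by the generator `j`. -/
def R : Fin 4 → Par → Par
  | 0, ((a, b, c, e), (f, g)) => ((!a, b, c, e), (f ^^ b ^^ a, g ^^ e ^^ c ^^ a))
  | 1, ((a, b, c, e), (f, g)) => ((a, !b, c, e), (f ^^ c ^^ b, g ^^ e ^^ b))
  | 2, ((a, b, c, e), (f, g)) => ((a, b, !c, e), (f ^^ e ^^ c, g ^^ c))
  | 3, ((a, b, c, e), (f, g)) => ((a, b, c, !e), (f ^^ e, g ^^ e))

/-- Conjugation by the automorphism of order five. -/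
def S : Par → Par
  | ((a, b, c, e), (f, g)) =>
    let x : Par := ((false, false, false, false), (false, false))
    let x := if a then R 1 x else x
    let x := if b then R 2 x else x
    let x := if c then R 3 x else x
    let x := if e then R 0 (R 1 (R 2 (R 3 x))) else x
    (x.1, (x.2.1 ^^ f, x.2.2 ^^ g))

variable {G : Type*} [Group G]

/-- Generators and relations. -/
structure Gens (G : Type*) [Group G] where
  s : G
  d : ℕ → G
  u : G
  v : G
  d_succ : ∀ i, d (i + 1) = s⁻¹ * d i * s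
  d_five : d 5 = d 0
  s_five : s ^ 5 = 1
  comm_u : ∀ i, u * d i = d i * u
  comm_v : ∀ i, v * d i = d i * v
  comm_us : u * s = s * u
  comm_vs : v * s = s * v
  comm_vu : v * u = u * v
  u_sq : u * u = 1
  v_sq : v * v = 1
  sw1 : ∀ i, d (i + 1) * d i = d i * d (i + 1) * u
  sw2 : ∀ i, d (i + 2) * d i = d i * d (i + 2) * v
  sq : ∀ i, d i * d i = u * v
  prod : d 0 * d 1 * d 2 * d 3 * d 4 = 1
  gen : Subgroup.closure ({d 0, s} : Set G) = ⊤
  card : Nat.card G = 320

variable (A : Gens G)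

/-- The normal form. -/
def Gens.word : Par → G
  | ((a, b, c, e), (f, g)) =>
    pw a (A.d 0) * pw b (A.d 1) * pw c (A.d 2) * pw e (A.d 3) * (pw f A.u * pw g A.v)

theorem Gens.word_mk (a b c e f g : Bool) : A.word ((a, b, c, e), (f, g)) =
    A.word ((a, b, c, e), (false, false)) * (pw f A.u * pw g A.v) := by
  simp [Gens.word, pw]

theorem Gens.sw3 : A.d 3 * A.d 0 = A.d 0 * A.d 3 * A.v := by
  have h := A.sw2 3
  rw [show 3 + 2 = 5 from rfl, A.d_five] at h
  rw [h]
  have h1 : ∀ i, A.v * A.d i = A.d i * A.v := A.comm_v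
  calc A.d 3 * A.d 0 = A.d 3 * A.d 0 * (A.v * A.v) := by rw [A.v_sq, mul_one]
    _ = A.d 3 * A.d 0 * A.v * A.v := by simp only [mul_assoc]

theorem Gens.word_R (j : Fin 4) (x : Par) : A.word x * A.d j.val = A.word (R j x) := by
  obtain ⟨⟨a, b, c, e⟩, f, g⟩ := x
  have e1 : ∀ {x y z : G}, x = y → x * z = y * z := fun h => by rw [h]
  have u1 : ∀ i t, A.u * (A.d i * t) = A.d i * (A.u * t) := fun i t => by
    rw [← mul_assoc, A.comm_u, mul_assoc]
  have v1 : ∀ i t, A.v * (A.d i * t) = A.d i * (A.v * t) := fun i t => by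
    rw [← mul_assoc, A.comm_v, mul_assoc]
  have vu1 : ∀ t, A.v * (A.u * t) = A.u * (A.v * t) := fun t => by
    rw [← mul_assoc, A.comm_vu, mul_assoc]
  have uu1 : ∀ t, A.u * (A.u * t) = t := fun t => by rw [← mul_assoc, A.u_sq, one_mul]
  have vv1 : ∀ t, A.v * (A.v * t) = t := fun t => by rw [← mul_assoc, A.v_sq, one_mul]
  have s10 : A.d 1 * A.d 0 = A.d 0 * (A.d 1 * A.u) := by rw [A.sw1 0, mul_assoc]
  have s21 : A.d 2 * A.d 1 = A.d 1 * (A.d 2 * A.u) := by rw [A.sw1 1, mul_assoc]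
  have s32 : A.d 3 * A.d 2 = A.d 2 * (A.d 3 * A.u) := by rw [A.sw1 2, mul_assoc]
  have s20 : A.d 2 * A.d 0 = A.d 0 * (A.d 2 * A.v) := by rw [A.sw2 0, mul_assoc]
  have s31 : A.d 3 * A.d 1 = A.d 1 * (A.d 3 * A.v) := by rw [A.sw2 1, mul_assoc]
  have s30 : A.d 3 * A.d 0 = A.d 0 * (A.d 3 * A.v) := by rw [A.sw3, mul_assoc]
  have s10' : ∀ t, A.d 1 * (A.d 0 * t) = A.d 0 * (A.d 1 * (A.u * t)) := fun t => by
    rw [← mul_assoc, s10, mul_assoc, mul_assoc]
  have s21' : ∀ t, A.d 2 * (A.d 1 * t) = A.d 1 * (A.d 2 * (A.u * t)) := fun t => by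
    rw [← mul_assoc, s21, mul_assoc, mul_assoc]
  have s32' : ∀ t, A.d 3 * (A.d 2 * t) = A.d 2 * (A.d 3 * (A.u * t)) := fun t => by
    rw [← mul_assoc, s32, mul_assoc, mul_assoc]
  have s20' : ∀ t, A.d 2 * (A.d 0 * t) = A.d 0 * (A.d 2 * (A.v * t)) := fun t => by
    rw [← mul_assoc, s20, mul_assoc, mul_assoc]
  have s31' : ∀ t, A.d 3 * (A.d 1 * t) = A.d 1 * (A.d 3 * (A.v * t)) := fun t => by
    rw [← mul_assoc, s31, mul_assoc, mul_assoc]
  have s30' : ∀ t, A.d 3 * (A.d 0 * t) = A.d 0 * (A.d 3 * (A.v * t)) := fun t => by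
    rw [← mul_assoc, s30, mul_assoc, mul_assoc]
  have q : ∀ i t, A.d i * (A.d i * t) = A.u * (A.v * t) := fun i t => by
    rw [← mul_assoc, A.sq, mul_assoc]
  have hz : (pw f A.u * pw g A.v) * A.d j.val = A.d j.val * (pw f A.u * pw g A.v) := by
    cases f <;> cases g <;> simp [pw, A.comm_u, A.comm_v, v1, u1, mul_assoc]
  rw [A.word_mk a b c e f g, mul_assoc, hz, ← mul_assoc]
  fin_cases j <;> simp only [R, Gens.word] <;>
    cases a <;> cases b <;> cases c <;> cases e <;> cases f <;> cases g <;>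
      simp [pw, mul_assoc, A.comm_u, A.comm_v, A.comm_vu, A.u_sq, A.v_sq, A.sq, q, u1, v1, vu1, uu1, vv1,
        s10, s21, s32, s20, s31, s30, s10', s21', s32', s20', s31', s30']

theorem Gens.d_inv (i : ℕ) : (A.d i)⁻¹ = A.d i * (A.u * A.v) := by
  refine inv_eq_of_mul_eq_one_right ?_
  rw [← mul_assoc, A.sq, mul_assoc, ← mul_assoc A.v, A.comm_vu, mul_assoc, A.v_sq, mul_one, A.u_sq]

theorem Gens.d_four : A.d 4 = A.d 3 * A.d 2 * A.d 1 * A.d 0 := by
  have h : A.d 4 = (A.d 3)⁻¹ * (A.d 2)⁻¹ * (A.d 1)⁻¹ * (A.d 0)⁻¹ := by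
    have e : A.d 4 = (A.d 0 * A.d 1 * A.d 2 * A.d 3)⁻¹ := (inv_eq_of_mul_eq_one_right A.prod).symm
    rw [e]; group
  have hz : ∀ i, A.u * A.v * A.d i = A.d i * (A.u * A.v) := fun i => by
    rw [mul_assoc, A.comm_v, ← mul_assoc, A.comm_u, mul_assoc]
  have hz2 : A.u * A.v * (A.u * A.v) = 1 := by
    rw [mul_assoc, ← mul_assoc A.v, A.comm_vu, mul_assoc, A.v_sq, mul_one, A.u_sq]
  rw [h, A.d_inv 3, A.d_inv 2, A.d_inv 1, A.d_inv 0]
  generalize A.u * A.v = z at hz hz2
  have hz' : ∀ i t, z * (A.d i * t) = A.d i * (z * t) := fun i t => by rw [← mul_assoc, hz, mul_assoc]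
  have hz2' : ∀ t, z * (z * t) = t := fun t => by rw [← mul_assoc, hz2, one_mul]
  simp [mul_assoc, hz, hz', hz2, hz2']

theorem Gens.word_pw (b : Bool) (j : Fin 4) (x : Par) :
    A.word x * pw b (A.d j.val) = A.word (if b then R j x else x) := by
  cases b
  · simp [pw]
  · simpa [pw] using A.word_R j x

theorem Gens.word_S (x : Par) : A.s⁻¹ * A.word x * A.s = A.word (S x) := by
  obtain ⟨⟨a, b, c, e⟩, f, g⟩ := x
  have hpw : ∀ (b : Bool) (i : ℕ), A.s⁻¹ * pw b (A.d i) * A.s = pw b (A.d (i + 1)) := by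
    intro b i; cases b
    · simp [pw]
    · simp [pw, A.d_succ]
  have hu : A.s⁻¹ * A.u * A.s = A.u := by rw [mul_assoc, A.comm_us, inv_mul_cancel_left]
  have hv : A.s⁻¹ * A.v * A.s = A.v := by rw [mul_assoc, A.comm_vs, inv_mul_cancel_left]
  have hz : A.s⁻¹ * (pw f A.u * pw g A.v) * A.s = pw f A.u * pw g A.v := by
    have h1 : A.s⁻¹ * pw f A.u * A.s = pw f A.u := by cases f <;> simp [pw, hu]
    have h2 : A.s⁻¹ * pw g A.v * A.s = pw g A.v := by cases g <;> simp [pw, hv]
    conv_rhs => rw [← h1, ← h2]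
    group
  have e1 : A.s⁻¹ * A.word ((a, b, c, e), (f, g)) * A.s =
      A.word ((false, false, false, false), (false, false)) * pw a (A.d 1) * pw b (A.d 2) * pw c (A.d 3) *
        pw e (A.d 4) * (pw f A.u * pw g A.v) := by
    rw [← hpw a 0, ← hpw b 1, ← hpw c 2, ← hpw e 3]
    conv_rhs => rw [← hz]
    simp [Gens.word, pw]
    group
  have h4 : ∀ y, A.word y * A.d 4 = A.word (R 0 (R 1 (R 2 (R 3 y)))) := fun y => by
    have h3' := A.word_R 3 y
    have h2' := A.word_R 2 (R 3 y)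
    have h1' := A.word_R 1 (R 2 (R 3 y))
    have h0' := A.word_R 0 (R 1 (R 2 (R 3 y)))
    rw [← h0', ← h1', ← h2', ← h3', A.d_four]
    simp only [mul_assoc]
    rfl
  have he : ∀ y, A.word y * pw e (A.d 4) = A.word (if e then R 0 (R 1 (R 2 (R 3 y))) else y) := by
    intro y; cases e
    · simp [pw]
    · simpa [pw] using h4 y
  have ha := A.word_pw a 1 ((false, false, false, false), (false, false))
  have hb := fun y => A.word_pw b 2 y
  have hc := fun y => A.word_pw c 3 y
  rw [e1, show A.d 1 = A.d (1 : Fin 4).val from rfl, ha, show A.d 2 = A.d (2 : Fin 4).val from rfl, hb,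
    show A.d 3 = A.d (3 : Fin 4).val from rfl, hc, he]
  simp only [S]
  generalize (if e = true then _ else _ : Par) = y
  obtain ⟨⟨a', b', c', e'⟩, f', g'⟩ := y
  rw [A.word_mk a' b' c' e' f' g', A.word_mk a' b' c' e' (f' ^^ f) (g' ^^ g), mul_assoc]
  congr 1
  have vu1 : ∀ t, A.v * (A.u * t) = A.u * (A.v * t) := fun t => by
    rw [← mul_assoc, A.comm_vu, mul_assoc]
  have uu1 : ∀ t, A.u * (A.u * t) = t := fun t => by rw [← mul_assoc, A.u_sq, one_mul]
  cases f <;> cases g <;> cases f' <;> cases g' <;>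
    simp [pw, mul_assoc, A.comm_vu, A.u_sq, A.v_sq, vu1, uu1]

theorem Gens.word_zero : A.word ((false, false, false, false), (false, false)) = 1 := by
  simp [Gens.word, pw]

/-- Two groups with such generators are isomorphic. -/
theorem Gens.nonempty_mulEquiv [Finite G] (A : Gens G) {H : Type*} [Group H] [Finite H] (B : Gens H) :
    Nonempty (G ≃* H) := by
  classical
  let T : Finset (G × H) := (Finset.univ : Finset (Fin 5 × Par)).image
    fun p => (A.s ^ p.1.val * A.word p.2, B.s ^ p.1.val * B.word p.2)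
  have hT : ∀ p, p ∈ T ↔ ∃ (k : ℕ) (x : Par), p = (A.s ^ k * A.word x, B.s ^ k * B.word x) := by
    intro p
    simp only [T, Finset.mem_image, Finset.mem_univ, true_and]
    constructor
    · rintro ⟨⟨k, x⟩, rfl⟩; exact ⟨k.val, x, rfl⟩
    · rintro ⟨k, x, rfl⟩
      refine ⟨(⟨k % 5, Nat.mod_lt _ (by norm_num)⟩, x), ?_⟩
      rw [pow_eq_pow_mod k A.s_five, pow_eq_pow_mod k B.s_five]
  let gens : Set (G × H) := {(A.d 0, B.d 0), (A.s, B.s)}
  let K : Subgroup (G × H) := Subgroup.closure gens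
  have hclosed : ∀ p ∈ T, ∀ g ∈ gens, p * g ∈ T := by
    intro p hp g hg
    rw [hT] at hp ⊢
    obtain ⟨k, x, rfl⟩ := hp
    rcases hg with rfl | rfl
    · refine ⟨k, R 0 x, ?_⟩
      rw [← A.word_R, ← B.word_R, Prod.mk_mul_mk, mul_assoc, mul_assoc]
      rfl
    · refine ⟨k + 1, S x, ?_⟩
      rw [← A.word_S, ← B.word_S, Prod.mk_mul_mk, pow_succ, pow_succ]
      simp [mul_assoc]
  have hone : (1 : G × H) ∈ T := (hT 1).mpr ⟨0, ((false, false, false, false), (false, false)), by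
    simp only [A.word_zero, B.word_zero, pow_zero, mul_one]
    rfl⟩
  have hK : ∀ p ∈ K, p ∈ T := by
    intro p hp
    rw [← Subgroup.mem_toSubmonoid, Subgroup.closure_toSubmonoid_of_finite] at hp
    induction hp using Submonoid.closure_induction_right with
    | one => exact hone
    | mul_right p _ g hg ih => exact hclosed p ih g hg
  have hcard : Nat.card K ≤ 320 := by
    calc Nat.card K ≤ Nat.card T := Nat.card_le_card_of_injective (fun p => ⟨p.1, hK p.1 p.2⟩)
          fun a b h => Subtype.ext (congrArg (fun z : T => z.1) h)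
      _ ≤ 320 := by
          rw [Nat.card_eq_fintype_card, Fintype.card_coe]
          exact Finset.card_image_le.trans (by simp [Par])
  let π₁ : K →* G := (MonoidHom.fst G H).comp K.subtype
  let π₂ : K →* H := (MonoidHom.snd G H).comp K.subtype
  have hs1 : Function.Surjective π₁ := by
    rw [← MonoidHom.range_eq_top, eq_top_iff, ← A.gen, Subgroup.closure_le]
    rintro g (rfl | rfl)
    · exact ⟨⟨_, Subgroup.subset_closure (Or.inl rfl)⟩, rfl⟩
    · exact ⟨⟨_, Subgroup.subset_closure (Or.inr rfl)⟩, rfl⟩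
  have hs2 : Function.Surjective π₂ := by
    rw [← MonoidHom.range_eq_top, eq_top_iff, ← B.gen, Subgroup.closure_le]
    rintro g (rfl | rfl)
    · exact ⟨⟨_, Subgroup.subset_closure (Or.inl rfl)⟩, rfl⟩
    · exact ⟨⟨_, Subgroup.subset_closure (Or.inr rfl)⟩, rfl⟩
  have hb1 := hs1.bijective_of_nat_card_le (by rw [A.card]; exact hcard)
  have hb2 := hs2.bijective_of_nat_card_le (by rw [B.card]; exact hcard)
  exact ⟨(MulEquiv.ofBijective π₁ hb1).symm.trans (MulEquiv.ofBijective π₂ hb2)⟩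

end Cfsg.Agent.Order320
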