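import Cfsg.Agent.S1248

/-!
The centralizer of an involution in `SU₃(4)` over `K16`: order 320, derived subgroup the Sylow
2-subgroup.
-/

set_option autoImplicit false

namespace Cfsg.Agent.Order320

open Cfsg.Agent.Unital16 Cfsg.Agent.SylL34
open Matrix
open scoped commutatorElement

/-- The central involution. -/
def invol : U3 := U34.el ⟨(0, 1), by decide +kernel⟩

/-- A fifth root of unity. -/
def α : K16 := k 8

/-- The diagonal element in adapted coordinates. -/
def dd : Matrix (Fin 3) (Fin 3) K16 := !![α, 0, 0; 0, α ^ 3, 0; 0, 0, α]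

/-- An element of order five centralizing the involution. -/
def tor : U3 := ⟨⟨U34.pP * dd * U34.pQ, by rw [det_fin_three]; decide +kernel⟩,
  mem_U3_iff.2 (by decide +kernel)⟩

theorem tor_facts : tor ^ 5 = 1 ∧ tor ≠ 1 ∧ tor * invol = invol * tor := by
  refine ⟨?_, ?_, ?_⟩ <;> decide +kernel

theorem invol_facts : invol ≠ 1 ∧ invol * invol = 1 := by
  refine ⟨?_, ?_⟩ <;> decide +kernel

theorem dd_up : ∀ a b : K16, dd * U34.up (a, b) = U34.up (α ^ 2 * a, b) * dd := by decide +kernel

theorem J_eq : U34.pPᵀ * U34.pP.map (fun x => x ^ 4) =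
    (!![0, 0, 1; 0, 1, 0; 1, 0, 0] : Matrix (Fin 3) (Fin 3) K16) := by decide +kernel

/-- The centralizer. -/
abbrev cent : Subgroup U3 := Subgroup.centralizer ({invol} : Set U3)

/-- Adapted coordinates. -/
def coord (g : U3) : Matrix (Fin 3) (Fin 3) K16 :=
  U34.pQ * ((g : SpecialLinearGroup (Fin 3) K16) : Matrix (Fin 3) (Fin 3) K16) * U34.pP

theorem pP_pQ : U34.pP * U34.pQ = 1 := mul_eq_one_comm.mp U34.pQ_pP

theorem coord_mul (g h : U3) : coord (g * h) = coord g * coord h := by
  show U34.pQ * (_ * _) * U34.pP = _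
  unfold coord
  calc _ = U34.pQ * (((g : SpecialLinearGroup (Fin 3) K16) : Matrix (Fin 3) (Fin 3) K16) * (U34.pP * U34.pQ) *
        ((h : SpecialLinearGroup (Fin 3) K16) : Matrix (Fin 3) (Fin 3) K16)) * U34.pP := by
        rw [pP_pQ, Matrix.mul_one]
    _ = _ := by simp only [Matrix.mul_assoc]

theorem coord_one : coord 1 = 1 := by
  show U34.pQ * 1 * U34.pP = 1
  rw [Matrix.mul_one, U34.pQ_pP]

theorem coord_injective : Function.Injective coord := by
  intro g h e
  have e' := congrArg (fun M => U34.pP * M * U34.pQ) e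
  have key : ∀ M : Matrix (Fin 3) (Fin 3) K16, U34.pP * (U34.pQ * M * U34.pP) * U34.pQ = M := fun M => by
    calc _ = (U34.pP * U34.pQ) * M * (U34.pP * U34.pQ) := by simp only [Matrix.mul_assoc]
      _ = M := by rw [pP_pQ, Matrix.one_mul, Matrix.mul_one]
  simp only [coord, key] at e'
  exact Subtype.ext (Subtype.ext e')

theorem coord_el (p : {p : K16 × K16 // U34.cond p}) : coord (U34.el p) = U34.up p.1 := by
  show U34.pQ * (U34.pP * U34.up p.1 * U34.pQ) * U34.pP = _
  calc _ = (U34.pQ * U34.pP) * U34.up p.1 * (U34.pQ * U34.pP) := by simp only [Matrix.mul_assoc]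
    _ = _ := by rw [U34.pQ_pP, Matrix.one_mul, Matrix.mul_one]

theorem coord_tor : coord tor = dd := by
  show U34.pQ * (U34.pP * dd * U34.pQ) * U34.pP = _
  calc _ = (U34.pQ * U34.pP) * dd * (U34.pQ * U34.pP) := by simp only [Matrix.mul_assoc]
    _ = _ := by rw [U34.pQ_pP, Matrix.one_mul, Matrix.mul_one]

attribute [irreducible] coord

/-- The shape of an element of the centralizer. -/
theorem coord_shape {g : U3} (hg : g ∈ cent) :
    coord g 1 0 = 0 ∧ coord g 2 0 = 0 ∧ coord g 2 1 = 0 ∧ coord g 2 2 = coord g 0 0 := by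
  have h := congrArg coord (Subgroup.mem_centralizer_singleton_iff.mp hg)
  rw [coord_mul, coord_mul, invol, coord_el] at h
  have e00 := congrFun (congrFun h 0) 0
  have e01 := congrFun (congrFun h 0) 1
  have e02 := congrFun (congrFun h 0) 2
  have e12 := congrFun (congrFun h 1) 2
  simp [U34.up, Matrix.mul_apply, Fin.sum_univ_three] at e00 e01 e02 e12
  refine ⟨?_, ?_, ?_, ?_⟩
  · linear_combination e12
  · exact e00
  · exact e01
  · linear_combination -e02

/-- The Hermitian condition in adapted coordinates. -/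
theorem coord_form (g : U3) :
    (coord g)ᵀ * !![0, 0, 1; 0, 1, 0; 1, 0, 0] * (coord g).map (fun x => x ^ 4) =
      (!![0, 0, 1; 0, 1, 0; 1, 0, 0] : Matrix (Fin 3) (Fin 3) K16) := by
  let f : K16 →+* K16 :=
    { toFun := fun x => x ^ 4
      map_one' := one_pow 4
      map_mul' := fun a b => mul_pow a b 4
      map_zero' := zero_pow (by norm_num)
      map_add' := add_pow_four }
  set M : Matrix (Fin 3) (Fin 3) K16 := ((g : SpecialLinearGroup (Fin 3) K16) : Matrix (Fin 3) (Fin 3) K16) with hM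
  have hU : Mᵀ * M.map f = 1 := by
    ext i j
    rw [Matrix.mul_apply, Matrix.one_apply, ← mem_U3_iff.1 g.2 i j]
    rfl
  have hJ : U34.pPᵀ * U34.pP.map f = !![0, 0, 1; 0, 1, 0; 1, 0, 0] := J_eq
  unfold coord
  show (U34.pQ * M * U34.pP)ᵀ * !![0, 0, 1; 0, 1, 0; 1, 0, 0] * (U34.pQ * M * U34.pP).map f = _
  have h1 : U34.pQᵀ * U34.pPᵀ = 1 := by rw [← Matrix.transpose_mul, pP_pQ, Matrix.transpose_one]
  have h2 : U34.pP.map f * U34.pQ.map f = 1 := by
    rw [← Matrix.map_mul, pP_pQ, Matrix.map_one f (map_zero f) (map_one f)]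
  rw [← hJ, Matrix.map_mul, Matrix.map_mul, Matrix.transpose_mul, Matrix.transpose_mul]
  calc _ = U34.pPᵀ * (Mᵀ * (U34.pQᵀ * U34.pPᵀ) * (U34.pP.map f * U34.pQ.map f) * M.map f) * U34.pP.map f := by
        simp only [Matrix.mul_assoc]
    _ = _ := by rw [h1, h2, Matrix.mul_one, Matrix.mul_one, hU, Matrix.mul_one]

/-- The corner entry is multiplicative. -/
def corner : cent →* K16 where
  toFun g := coord g.1 0 0
  map_one' := by
    show coord 1 0 0 = 1
    rw [coord_one]; rfl
  map_mul' a b := by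
    show coord (a.1 * b.1) 0 0 = _
    rw [coord_mul, Matrix.mul_apply, Fin.sum_univ_three, (coord_shape b.2).1, (coord_shape b.2).2.1]
    simp

theorem corner_pow (g : cent) : corner g ^ 5 = 1 := by
  obtain ⟨h10, h20, h21, h22⟩ := coord_shape g.2
  have h := congrFun (congrFun (coord_form g.1) 0) 2
  simp [Matrix.mul_apply, Fin.sum_univ_three, h10, h20, h21, h22] at h
  show coord g.1 0 0 ^ 5 = 1
  linear_combination h

theorem corner_ker {g : cent} (hg : corner g = 1) : g.1 ∈ U34.syl := by
  obtain ⟨h10, h20, h21, h22⟩ := coord_shape g.2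
  have h00 : coord g.1 0 0 = 1 := hg
  have hdet : (coord g.1).det = 1 := by
    unfold coord
    rw [det_mul, det_mul, g.1.1.2, mul_one, ← det_mul, U34.pQ_pP, det_one]
  rw [det_fin_three, h10, h20, h21, h22, h00] at hdet
  have h11 : coord g.1 1 1 = 1 := by linear_combination hdet
  have e1 := congrFun (congrFun (coord_form g.1) 1) 2
  have e2 := congrFun (congrFun (coord_form g.1) 2) 2
  simp [Matrix.mul_apply, Fin.sum_univ_three, h10, h20, h21, h22, h00, h11] at e1 e2
  have two : (2 : K16) = 0 := CharTwo.two_eq_zero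
  have hc : U34.cond (coord g.1 1 2, coord g.1 0 2) := by
    show coord g.1 0 2 + coord g.1 0 2 ^ 4 = coord g.1 1 2 ^ 5
    linear_combination e2 - (coord g.1 1 2 ^ 5) * two
  refine ⟨⟨_, hc⟩, coord_injective ?_⟩
  rw [coord_el]
  have h01 : coord g.1 0 1 = coord g.1 1 2 ^ 4 := by
    linear_combination e1 - (coord g.1 1 2 ^ 4) * two
  ext i j
  fin_cases i <;> fin_cases j <;> simp [U34.up, h10, h20, h21, h22, h00, h11, h01]

theorem syl_le : U34.syl ≤ cent := by
  intro x hx
  have ht : invol ∈ U34.syl := ⟨_, rfl⟩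
  have := props_syl.central ⟨invol, ht⟩ (Subtype.ext invol_facts.2)
  exact Subgroup.mem_centralizer_singleton_iff.mpr
    (congrArg Subtype.val (Subgroup.mem_center_iff.mp this ⟨x, hx⟩))

theorem tor_mem : tor ∈ cent := Subgroup.mem_centralizer_singleton_iff.mpr tor_facts.2.2

/-- Counting by a homomorphism to a commutative monoid. -/
theorem card_le_of_hom {G M : Type*} [Group G] [Finite G] [CommMonoid M] (φ : G →* M) (S : Finset M)
    (hS : ∀ g, φ g ∈ S) {m : ℕ} (hm : Nat.card φ.ker ≤ m) : Nat.card G ≤ S.card * m := by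
  classical
  haveI : Fintype G := Fintype.ofFinite G
  rw [Nat.card_eq_fintype_card, ← Finset.card_univ, Nat.mul_comm]
  refine Finset.card_le_mul_card_image_of_maps_to (f := fun g : G => φ g) (t := S) (fun g _ => hS g) m fun a _ => ?_
  rcases ((Finset.univ : Finset G).filter fun g => φ g = a).eq_empty_or_nonempty with he | ⟨g₀, hg₀⟩
  · rw [he]; exact Nat.zero_le m
  refine le_trans ?_ hm
  rw [← Nat.card_eq_finsetCard]
  refine Nat.card_le_card_of_injective (fun g : ((Finset.univ : Finset G).filter fun g => φ g = a) =>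
    (⟨g₀⁻¹ * g.1, ?_⟩ : φ.ker)) fun x y e => Subtype.ext (mul_left_cancel (congrArg Subtype.val e))
  rw [MonoidHom.mem_ker, map_mul, (Finset.mem_filter.mp g.2).2, ← (Finset.mem_filter.mp hg₀).2, ← map_mul,
    inv_mul_cancel, map_one]

theorem roots_card : ((Finset.univ : Finset K16).filter fun a => a ^ 5 = 1).card = 5 := by decide +kernel

theorem corner_ker_card : Nat.card corner.ker ≤ 64 := by
  rw [← props_syl.card]
  exact Nat.card_le_card_of_injective
    (fun g : corner.ker => (⟨g.1.1, corner_ker (MonoidHom.mem_ker.mp g.2)⟩ : U34.syl))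
    fun a b e => Subtype.ext (Subtype.ext (congrArg (fun z : U34.syl => (z : U3)) e))

theorem cent_card : Nat.card cent = 320 := by
  refine le_antisymm ?_ ?_
  · have h := card_le_of_hom corner ((Finset.univ : Finset K16).filter fun a => a ^ 5 = 1)
      (fun g => Finset.mem_filter.mpr ⟨Finset.mem_univ _, corner_pow g⟩) corner_ker_card
    rwa [roots_card] at h
  · have h64 : 64 ∣ Nat.card cent := props_syl.card ▸ Subgroup.card_dvd_of_le syl_le
    have h5 : 5 ∣ Nat.card cent := by
      haveI : Fact (Nat.Prime 5) := ⟨by norm_num⟩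
      rw [← orderOf_eq_prime tor_facts.1 tor_facts.2.1, ← Subgroup.orderOf_mk tor tor_mem]
      exact orderOf_dvd_natCard _
    exact Nat.le_of_dvd Nat.card_pos (Nat.Coprime.mul_dvd_of_dvd_of_dvd (by norm_num) h64 h5 : 64 * 5 ∣ _)

theorem map_commutator_cent : (commutator cent).map cent.subtype = U34.syl := by
  refine le_antisymm ?_ ?_
  · rintro _ ⟨g, hg, rfl⟩
    refine corner_ker ?_
    exact congrArg Units.val (MonoidHom.mem_ker.mp (Abelianization.commutator_subset_ker corner.toHomUnits hg))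
  · rintro _ ⟨p, rfl⟩
    have hmem : ∀ q, U34.el q ∈ cent := fun q => syl_le ⟨q, rfl⟩
    have hne : α ^ 2 + 1 ≠ 0 := by decide +kernel
    obtain ⟨b, hb⟩ := Cfsg.Agent.S1248.facts.1 (p.1.1 / (α ^ 2 + 1))
    set a := p.1.1 / (α ^ 2 + 1) with ha
    have hb' : U34.cond (α ^ 2 * a, b) := by
      have h10 : (α ^ 2) ^ 5 = 1 := by decide +kernel
      show b + b ^ 4 = (α ^ 2 * a) ^ 5
      rw [mul_pow, h10, one_mul]
      exact hb
    have hconj : tor * U34.el ⟨(a, b), hb⟩ = U34.el ⟨(α ^ 2 * a, b), hb'⟩ * tor := by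
      refine coord_injective ?_
      rw [coord_mul, coord_mul, coord_el, coord_el, coord_tor]
      exact dd_up a b
    let c : cent := ⁅(⟨tor, tor_mem⟩ : cent), ⟨U34.el ⟨(a, b), hb⟩, hmem _⟩⁆
    have hcD : c.1 ∈ (commutator cent).map cent.subtype :=
      ⟨c, Subgroup.commutator_mem_commutator (Subgroup.mem_top _) (Subgroup.mem_top _), rfl⟩
    have hc : c.1 * U34.el ⟨(a, b), hb⟩ = U34.el ⟨(α ^ 2 * a, b), hb'⟩ := by
      show tor * U34.el ⟨(a, b), hb⟩ * tor⁻¹ * (U34.el ⟨(a, b), hb⟩)⁻¹ * _ = _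
      rw [inv_mul_cancel_right, hconj, mul_inv_cancel_right]
    obtain ⟨r, hr⟩ : c.1 ∈ U34.syl := by
      rw [eq_mul_inv_of_mul_eq hc]
      exact mul_mem ⟨_, rfl⟩ (inv_mem ⟨_, rfl⟩)
    rw [← hr, U34.el_prod] at hc
    have hr1 : r.1.1 + a = α ^ 2 * a := congrArg (fun z : {p : K16 × K16 // U34.cond p} => z.1.1) (U34.el_injective hc)
    obtain ⟨w, hw⟩ : (U34.el r)⁻¹ * U34.el p ∈ U34.syl := mul_mem (inv_mem ⟨_, rfl⟩) ⟨_, rfl⟩
    have hrw : U34.el r * U34.el w = U34.el p := by rw [hw, mul_inv_cancel_left]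
    have hw1 : w.1.1 = 0 := by
      have h1 : r.1.1 + w.1.1 = p.1.1 := by
        have := hrw
        rw [U34.el_prod] at this
        exact congrArg (fun z : {p : K16 × K16 // U34.cond p} => z.1.1) (U34.el_injective this)
      have h2 : r.1.1 = p.1.1 := by
        have : (α ^ 2 + 1) * a = p.1.1 := by rw [ha, mul_div_cancel₀ _ hne]
        linear_combination hr1 + this - a * (CharTwo.two_eq_zero : (2 : K16) = 0)
      linear_combination h1 - h2
    have hsq : (U34.param w) * (U34.param w) = 1 := by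
      rw [U34.param_prod, ← U34.param_one]
      refine congrArg _ (Subtype.ext ?_)
      show U34.pmul w.1 w.1 = (0, 0)
      rw [U34.pmul_self, hw1]
      simp
    have hwD : U34.el w ∈ (commutator cent).map cent.subtype := by
      have h1 := Cfsg.Agent.S1248.syl_le_commutator _ hsq
      have h2 : (commutator U34.syl).map U34.syl.subtype ≤ (commutator cent).map cent.subtype := by
        rw [commutator_def, commutator_def, Subgroup.map_commutator, Subgroup.map_commutator,
          ← MonoidHom.range_eq_map, ← MonoidHom.range_eq_map, Subgroup.range_subtype, Subgroup.range_subtype]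
        exact Subgroup.commutator_mono syl_le syl_le
      exact h2 ⟨_, h1, rfl⟩
    rw [← hrw, hr]
    exact mul_mem hcD hwD

/-- The derived subgroup of the centralizer is the Sylow subgroup. -/
theorem cent_facts : Nat.card cent = 320 ∧ Nat.card (commutator cent) = 64 ∧
    IsKleinFour (Subgroup.center (commutator cent)) := by
  obtain ⟨h1, h2, -⟩ := Cfsg.Agent.S1248.of_equiv_syl
    (((commutator cent).equivMapOfInjective cent.subtype cent.subtype_injective).trans
      (MulEquiv.subgroupCongr map_commutator_cent))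
  exact ⟨cent_card, h1, h2⟩

end Cfsg.Agent.Order320
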