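import Cfsg.Agent.Lib.Order320.Basic

/-!
A group of order 320 whose derived subgroup has order 64 and Klein four centre has generators as in
`Order320.Gens`.
-/

set_option autoImplicit false
set_option linter.unusedSectionVars false

namespace Cfsg.Agent.Order320

open scoped commutatorElement

variable {H : Type*} [Group H] [Finite H]

theorem fixed_modEq (s : H) (hs : s ^ 5 = 1) (W : Subgroup H) (hW : ∀ x ∈ W, s⁻¹ * x * s ∈ W) :
    Nat.card W ≡ Nat.card {x : W // s⁻¹ * (x : H) * s = x} [MOD 5] := by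
  classical
  haveI : Fact (Nat.Prime 5) := ⟨by norm_num⟩
  haveI : Fintype W := Fintype.ofFinite W
  let f : Function.End W := fun x => ⟨s⁻¹ * (x : H) * s, hW x x.2⟩
  have hfk : ∀ (k : ℕ) (x : W), (((f ^ k) x : W) : H) = (s ^ k)⁻¹ * x * s ^ k := by
    intro k
    induction k with
    | zero => intro x; simp only [pow_zero, inv_one, one_mul, mul_one]; rfl
    | succ k ih =>
      intro x
      rw [pow_succ']
      show s⁻¹ * (((f ^ k) x : W) : H) * s = _
      rw [ih, pow_succ s k]
      group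
  have hf : f ^ 5 ^ 1 = 1 := by
    funext x
    refine Subtype.ext ?_
    rw [hfk, pow_one, hs, inv_one, one_mul, mul_one]
    rfl
  have h := Equiv.Perm.card_fixedPoints_modEq (p := 5) (n := 1) hf
  rw [← Nat.card_eq_fintype_card, ← Nat.card_eq_fintype_card] at h
  refine h.trans (congrArg (· % 5) (Nat.card_congr (Equiv.subtypeEquivRight fun x => ?_)))
  exact ⟨fun h => congrArg Subtype.val h, fun h => Subtype.ext h⟩

/-- The facts about the quotient by the centre of the derived subgroup. -/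
theorem quotient_facts (hH : Nat.card H = 80) (hV : Nat.card (commutator H) = 16) (s : H) (hs : orderOf s = 5) :
    (∀ x ∈ commutator H, ∀ y ∈ commutator H, x * y = y * x) ∧ (∀ x ∈ commutator H, x * x = 1) ∧
      (∀ x ∈ commutator H, s⁻¹ * x * s = x → x = 1) ∧
      (∀ W : Subgroup H, W ≤ commutator H → (∀ x ∈ W, s⁻¹ * x * s ∈ W) → W ≠ ⊥ → W = commutator H) := by
  classical
  haveI : Fact (Nat.Prime 2) := ⟨Nat.prime_two⟩
  have hs5 : s ^ 5 = 1 := hs ▸ pow_orderOf_eq_one s
  set V := commutator H with hVdef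
  have hN : V.Normal := by rw [hVdef]; infer_instance
  have hVinv : ∀ x ∈ V, s⁻¹ * x * s ∈ V := fun x hx => by simpa using hN.conj_mem x hx s⁻¹
  have hsV : s ∉ V := fun h => by
    have h1 := orderOf_dvd_natCard (⟨s, h⟩ : V)
    rw [Subgroup.orderOf_mk, hs, hV] at h1
    norm_num at h1
  let C : Subgroup H := V ⊓ Subgroup.centralizer {s}
  have hC : ∀ x, x ∈ C ↔ x ∈ V ∧ s⁻¹ * x * s = x := fun x => by
    simp only [C, Subgroup.mem_inf, Subgroup.mem_centralizer_singleton_iff]
    refine and_congr_right fun _ => ⟨fun h => ?_, fun h => ?_⟩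
    · rw [mul_assoc, h, inv_mul_cancel_left]
    · conv_rhs => rw [← h]
      group
  have hCcard : Nat.card C ≡ 16 [MOD 5] := by
    rw [← hV]
    refine Nat.ModEq.trans ?_ (fixed_modEq s hs5 V hVinv).symm
    exact congrArg (· % 5) (Nat.card_congr
      { toFun := fun x => ⟨⟨x.1, ((hC _).mp x.2).1⟩, ((hC _).mp x.2).2⟩
        invFun := fun x => ⟨x.1.1, (hC _).mpr ⟨x.1.2, x.2⟩⟩
        left_inv := fun x => rfl
        right_inv := fun x => rfl })
  have hCdvd : Nat.card C ∣ 2 ^ 4 := by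
    have := Subgroup.card_dvd_of_le (inf_le_left : C ≤ V)
    rw [hV] at this
    exact this
  have hfix : ∀ x ∈ V, s⁻¹ * x * s = x → x = 1 := by
    intro x hx he
    obtain ⟨k, hk, hCk⟩ := (Nat.dvd_prime_pow Nat.prime_two).mp hCdvd
    have hk' : k = 0 ∨ k = 4 := by
      unfold Nat.ModEq at hCcard
      rw [hCk] at hCcard
      interval_cases k <;> simp_all
    rcases hk' with rfl | rfl
    · have hbot : C = ⊥ := Subgroup.card_eq_one.mp (by simpa using hCk)
      have : x ∈ C := (hC x).mpr ⟨hx, he⟩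
      rwa [hbot, Subgroup.mem_bot] at this
    exfalso
    have hVC : C = V := Subgroup.eq_of_le_of_card_ge inf_le_left (by rw [hCk, hV]; norm_num)
    have hcomm : ∀ y ∈ V, Commute s y := fun y hy => by
      have : y ∈ C := hVC.symm ▸ hy
      exact (Subgroup.mem_centralizer_singleton_iff.mp this.2).symm
    haveI := hN
    have htop : V ⊔ Subgroup.zpowers s = ⊤ := by
      refine Subgroup.eq_top_of_le_card _ ?_
      have h16 : 16 ∣ Nat.card ↥(V ⊔ Subgroup.zpowers s) := hV ▸ Subgroup.card_dvd_of_le le_sup_left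
      have h5 : 5 ∣ Nat.card ↥(V ⊔ Subgroup.zpowers s) := by
        rw [← hs, ← Nat.card_zpowers]; exact Subgroup.card_dvd_of_le le_sup_right
      rw [hH]
      exact Nat.le_of_dvd Nat.card_pos (Nat.Coprime.mul_dvd_of_dvd_of_dvd (by norm_num) h16 h5 : 16 * 5 ∣ _)
    -- the derived subgroup is then that of `V`
    let M : Subgroup H := ⁅V, V⁆
    have hM : V ≤ M := by
      have key : ∀ a b : H, ⁅a, b⁆ ∈ M := by
        intro a b
        have ha : a ∈ (↑(V ⊔ Subgroup.zpowers s) : Set H) := htop ▸ Set.mem_univ a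
        have hb : b ∈ (↑(V ⊔ Subgroup.zpowers s) : Set H) := htop ▸ Set.mem_univ b
        rw [Subgroup.normal_mul, Set.mem_mul] at ha hb
        obtain ⟨v, hv, p, hp, rfl⟩ := ha
        obtain ⟨w, hw, r, hr, rfl⟩ := hb
        obtain ⟨i, rfl⟩ := hp
        obtain ⟨j, rfl⟩ := hr
        have h1 : s ^ i * w = w * s ^ i := ((hcomm w hw).zpow_left i).eq
        have h2 : s ^ j * v⁻¹ = v⁻¹ * s ^ j := (((hcomm v hv).inv_right).zpow_left j).eq
        have e : ⁅v * s ^ i, w * s ^ j⁆ = ⁅v, w⁆ := by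
          calc ⁅v * s ^ i, w * s ^ j⁆ = v * (s ^ i * w) * (s ^ j * (s ^ i)⁻¹) * v⁻¹ * ((s ^ j)⁻¹ * w⁻¹) := by
                rw [commutatorElement_def]; group
            _ = v * w * (s ^ j * v⁻¹) * ((s ^ j)⁻¹ * w⁻¹) := by
                rw [h1, show s ^ j * (s ^ i)⁻¹ = (s ^ i)⁻¹ * s ^ j by group]; group
            _ = ⁅v, w⁆ := by rw [h2, commutatorElement_def]; group
        rw [e]
        exact Subgroup.commutator_mem_commutator hv hw
      conv_lhs => rw [hVdef, commutator_def]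
      rw [Subgroup.commutator_le]
      exact fun a _ b _ => key a b
    haveI : Group.IsNilpotent V := (IsPGroup.of_card (p := 2) (n := 4) (by rw [hV]; norm_num)).isNilpotent
    haveI : Nontrivial V := Finite.one_lt_card_iff_nontrivial.mp (by rw [hV]; norm_num)
    have hlt : commutator V < ⊤ := (Group.IsSolvable.commutator_lt_top_of_nontrivial V)
    refine hlt.ne (eq_top_iff.mpr fun y _ => ?_)
    have hy : (y : H) ∈ (commutator V).map V.subtype := by
      rw [commutator_def, Subgroup.map_commutator, ← MonoidHom.range_eq_map, Subgroup.range_subtype]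
      exact hM y.2
    obtain ⟨y', hy', e⟩ := hy
    rwa [← Subtype.ext e]
  have hinv : ∀ W : Subgroup H, W ≤ V → (∀ x ∈ W, s⁻¹ * x * s ∈ W) → W ≠ ⊥ → W = V := by
    intro W hW hWs hne
    have hm := fixed_modEq s hs5 W hWs
    have h1 : Nat.card {x : W // s⁻¹ * (x : H) * s = x} = 1 := by
      haveI : Subsingleton {x : W // s⁻¹ * (x : H) * s = x} := ⟨fun a b => Subtype.ext (Subtype.ext (by
        rw [hfix _ (hW a.1.2) a.2, hfix _ (hW b.1.2) b.2]))⟩
      haveI : Nonempty {x : W // s⁻¹ * (x : H) * s = x} := ⟨⟨1, by simp⟩⟩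
      exact Nat.card_unique
    obtain ⟨k, hk, hWk⟩ := (Nat.dvd_prime_pow Nat.prime_two).mp (show Nat.card W ∣ 2 ^ 4 by
      have := Subgroup.card_dvd_of_le hW; rw [hV] at this; exact this)
    refine Subgroup.eq_of_le_of_card_ge hW ?_
    rw [hV]
    rw [h1, hWk] at hm
    unfold Nat.ModEq at hm
    have hk0 : k ≠ 0 := fun h => hne (Subgroup.card_eq_one.mp (by rw [hWk, h, pow_zero]))
    interval_cases k <;> simp_all
  -- abelian
  let Z : Subgroup H := V ⊓ Subgroup.centralizer (V : Set H)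
  have hZV : Z = V := by
    refine hinv Z inf_le_left (fun x hx => ⟨hVinv x hx.1, fun y hy => ?_⟩) ?_
    · have hy' : s * y * s⁻¹ ∈ V := hN.conj_mem y hy s
      have h := hx.2 _ hy'
      calc y * (s⁻¹ * x * s) = s⁻¹ * (s * y * s⁻¹ * x) * s := by group
        _ = s⁻¹ * (x * (s * y * s⁻¹)) * s := by rw [h]
        _ = s⁻¹ * x * s * y := by group
    · intro hbot
      haveI : Nontrivial V := Finite.one_lt_card_iff_nontrivial.mp (by rw [hV]; norm_num)
      haveI := (IsPGroup.of_card (p := 2) (G := V) (n := 4) (by rw [hV]; norm_num)).center_nontrivial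
      obtain ⟨z, hz⟩ := exists_ne (1 : Subgroup.center V)
      refine hz (Subtype.ext (Subtype.ext ?_))
      have : ((z : V) : H) ∈ Z := ⟨(z : V).2, fun y hy =>
        congrArg Subtype.val (Subgroup.mem_center_iff.mp z.2 ⟨y, hy⟩)⟩
      rwa [hbot, Subgroup.mem_bot] at this
  have hab : ∀ x ∈ V, ∀ y ∈ V, x * y = y * x := fun x hx y hy => by
    have : y ∈ Z := hZV.symm ▸ hy
    exact this.2 x hx
  refine ⟨hab, ?_, hfix, hinv⟩
  let Q : Subgroup H :=
    { carrier := {x | x ∈ V ∧ x * x = 1}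
      one_mem' := ⟨one_mem V, one_mul 1⟩
      mul_mem' := fun {a b} ha hb => ⟨mul_mem ha.1 hb.1, by
        rw [show a * b * (a * b) = a * (b * a) * b by group, hab b hb.1 a ha.1,
          show a * (a * b) * b = (a * a) * (b * b) by group, ha.2, hb.2, mul_one]⟩
      inv_mem' := fun {a} ha => ⟨inv_mem ha.1, by rw [← mul_inv_rev, ha.2, inv_one]⟩ }
  have hQ : Q = V := by
    refine hinv Q (fun x hx => hx.1) (fun x hx => ⟨hVinv x hx.1, ?_⟩) ?_
    · rw [show s⁻¹ * x * s * (s⁻¹ * x * s) = s⁻¹ * (x * x) * s by group, hx.2]; group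
    · obtain ⟨z, hz⟩ := exists_prime_orderOf_dvd_card' (G := V) 2 (by rw [hV]; norm_num)
      intro hbot
      have : ((z : V) : H) ∈ Q := ⟨z.2, by
        rw [← sq, ← SubmonoidClass.coe_pow, ← hz, pow_orderOf_eq_one]; rfl⟩
      rw [hbot, Subgroup.mem_bot] at this
      rw [show z = 1 from Subtype.ext this, orderOf_one] at hz
      norm_num at hz
  intro x hx
  have : x ∈ Q := hQ.symm ▸ hx
  exact this.2

variable {G : Type*} [Group G] [Finite G]

/-- The generators exist. -/
theorem exists_gens (hG : Nat.card G = 320) (hD : Nat.card (commutator G) = 64)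
    (hZ : IsKleinFour (Subgroup.center (commutator G))) : Nonempty (Gens G) := by
  classical
  haveI : Fact (Nat.Prime 5) := ⟨by norm_num⟩
  set D := commutator G with hDdef
  let Z : Subgroup G := (Subgroup.center D).map D.subtype
  have hZmem : ∀ z, z ∈ Z ↔ z ∈ D ∧ ∀ x ∈ D, x * z = z * x := by
    intro z
    constructor
    · rintro ⟨z, hz, rfl⟩
      exact ⟨z.2, fun x hx => congrArg Subtype.val (Subgroup.mem_center_iff.mp hz ⟨x, hx⟩)⟩
    · rintro ⟨hz, h⟩
      exact ⟨⟨z, hz⟩, Subgroup.mem_center_iff.mpr fun x => Subtype.ext (h x x.2), rfl⟩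
  have hDn : D.Normal := by rw [hDdef]; infer_instance
  haveI := hDn
  haveI hZn : Z.Normal := ⟨fun z hz g => (hZmem _).mpr ⟨hDn.conj_mem z ((hZmem z).mp hz).1 g, fun x hx => by
    have h := ((hZmem z).mp hz).2 _ (hDn.conj_mem x hx g⁻¹)
    rw [inv_inv] at h
    calc x * (g * z * g⁻¹) = g * (g⁻¹ * x * g * z) * g⁻¹ := by group
      _ = g * (z * (g⁻¹ * x * g)) * g⁻¹ := by rw [h]
      _ = g * z * g⁻¹ * x := by group⟩⟩
  have hZcard : Nat.card Z = 4 := by
    rw [show Nat.card Z = Nat.card (Subgroup.center D) from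
      (Nat.card_congr ((Subgroup.center D).equivMapOfInjective _ D.subtype_injective).toEquiv).symm]
    exact hZ.card_four
  have hZsq : ∀ z ∈ Z, z * z = 1 := by
    rintro _ ⟨z, hz, rfl⟩
    have h2 : (⟨z, hz⟩ : Subgroup.center D) ^ 2 = 1 := hZ.exponent_two ▸ Monoid.pow_exponent_eq_one _
    rw [sq] at h2
    exact congrArg (fun w : Subgroup.center D => ((w : D) : G)) h2
  obtain ⟨s, hs⟩ := exists_prime_orderOf_dvd_card' (G := G) 5 (by rw [hG]; norm_num)
  have hs5 : s ^ 5 = 1 := hs ▸ pow_orderOf_eq_one s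
  let q := QuotientGroup.mk' Z
  have hqz : ∀ {x}, q x = 1 ↔ x ∈ Z := fun {x} => QuotientGroup.eq_one_iff x
  have hH : Nat.card (G ⧸ Z) = 80 := by
    have := Subgroup.card_eq_card_quotient_mul_card_subgroup Z
    rw [hG, hZcard] at this; omega
  have hV : commutator (G ⧸ Z) = D.map q := by
    rw [hDdef, commutator_def, commutator_def, Subgroup.map_commutator,
      Subgroup.map_top_of_surjective q (QuotientGroup.mk'_surjective Z)]
  have hZD : Z ≤ D := fun z hz => ((hZmem z).mp hz).1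
  have hVcard : Nat.card (commutator (G ⧸ Z)) = 16 := by
    rw [hV]
    have h := Subgroup.card_eq_card_quotient_mul_card_subgroup (Z.subgroupOf D)
    rw [hD, Nat.card_congr (Subgroup.subgroupOfEquivOfLe hZD).toEquiv, hZcard] at h
    let φ : D →* G ⧸ Z := q.comp D.subtype
    have hker : φ.ker = Z.subgroupOf D := by
      ext x; rw [MonoidHom.mem_ker, Subgroup.mem_subgroupOf]; exact hqz
    have hrange : φ.range = D.map q := by rw [MonoidHom.range_comp, Subgroup.range_subtype]
    rw [← hrange, ← Nat.card_congr (QuotientGroup.quotientKerEquivRange φ).toEquiv, hker]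
    omega
  have hqs : orderOf (q s) = 5 := by
    refine orderOf_eq_prime (by rw [← map_pow, hs5, map_one]) fun h => ?_
    have h1 := orderOf_dvd_natCard (⟨s, hqz.mp h⟩ : Z)
    rw [Subgroup.orderOf_mk, hs, hZcard] at h1
    norm_num at h1
  obtain ⟨hab, hexp, hfix, hirr⟩ := quotient_facts hH hVcard (q s) hqs
  have hmemV : ∀ {x}, x ∈ D → q x ∈ commutator (G ⧸ Z) := fun {x} hx => hV ▸ Subgroup.mem_map_of_mem q hx
  -- the conjugates
  let c : G → G := fun x => s⁻¹ * x * s
  have hcD : ∀ {x}, x ∈ D → c x ∈ D := fun {x} hx => by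
    have := hDn.conj_mem x hx s⁻¹
    simpa [c] using this
  have hcZ : ∀ z ∈ Z, c z = z := by
    intro z hz
    have hZinv : ∀ x ∈ Z, s⁻¹ * x * s ∈ Z := fun x hx => by
      have := hZn.conj_mem x hx s⁻¹
      simpa using this
    have hm := fixed_modEq s hs5 Z hZinv
    rw [hZcard] at hm
    have hle : Nat.card {x : Z // s⁻¹ * (x : G) * s = x} ≤ 4 := by
      rw [← hZcard]; exact Nat.card_le_card_of_injective _ Subtype.val_injective
    have h4 : Nat.card {x : Z // s⁻¹ * (x : G) * s = x} = 4 := by unfold Nat.ModEq at hm; omega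
    have hb := (Subtype.val_injective (p := fun x : Z => s⁻¹ * (x : G) * s = x)).bijective_of_nat_card_le
      (by rw [h4, hZcard])
    obtain ⟨⟨x, hx⟩, e⟩ := hb.2 ⟨z, hz⟩
    rw [show x = ⟨z, hz⟩ from e] at hx
    exact hx
  -- choose a vector outside the centre
  obtain ⟨x₀, hx₀, hx₀Z⟩ : ∃ x ∈ D, x ∉ Z := by
    by_contra hcon
    push Not at hcon
    have := Subgroup.card_dvd_of_le (show D ≤ Z from hcon)
    rw [hD, hZcard] at this
    norm_num at this
  let e : ℕ → G → G := fun i x => (s ^ i)⁻¹ * x * s ^ i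
  have he_succ : ∀ i x, e (i + 1) x = s⁻¹ * e i x * s := fun i x => by
    simp only [e, pow_succ]; group
  have heD : ∀ i {x}, x ∈ D → e i x ∈ D := fun i {x} hx => by
    induction i with
    | zero => simpa [e] using hx
    | succ i ih => rw [he_succ]; exact hcD ih
  have he5 : ∀ x, e 5 x = e 0 x := fun x => by simp [e, hs5]
  let P : G → G := fun x => e 0 x * e 1 x * e 2 x * e 3 x * e 4 x
  have hPZ : P x₀ ∈ Z := by
    rw [← hqz]
    refine hfix _ (hmemV (mul_mem (mul_mem (mul_mem (mul_mem (heD 0 hx₀) (heD 1 hx₀)) (heD 2 hx₀)) (heD 3 hx₀))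
      (heD 4 hx₀))) ?_
    rw [← map_inv, ← map_mul, ← map_mul]
    have : s⁻¹ * P x₀ * s = e 1 x₀ * e 2 x₀ * e 3 x₀ * e 4 x₀ * e 0 x₀ := by
      rw [← he5, he_succ 4, he_succ 3, he_succ 2, he_succ 1, he_succ 0]; simp only [P]
      rw [he_succ 3, he_succ 2, he_succ 1, he_succ 0]; group
    rw [this]
    simp only [P, map_mul]
    have hm : ∀ i, q (e i x₀) ∈ commutator (G ⧸ Z) := fun i => hmemV (heD i hx₀)
    rw [hab _ (mul_mem (mul_mem (mul_mem (hm 1) (hm 2)) (hm 3)) (hm 4)) _ (hm 0)]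
    simp only [mul_assoc]
  set d₀ := x₀ * P x₀ with hd₀
  have hd₀D : d₀ ∈ D := mul_mem hx₀ (hZD hPZ)
  have hd₀Z : d₀ ∉ Z := fun h => hx₀Z (by simpa [d₀] using Z.mul_mem h (Z.inv_mem hPZ))
  let d : ℕ → G := fun i => e i d₀
  have hdD : ∀ i, d i ∈ D := fun i => heD i hd₀D
  have hez : ∀ i, e i (P x₀) = P x₀ := by
    intro i
    induction i with
    | zero => simp [e]
    | succ i ih => rw [he_succ, ih]; exact hcZ _ hPZ
  have hdeq : ∀ i, d i = e i x₀ * P x₀ := fun i => by
    show e i (x₀ * P x₀) = _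
    conv_rhs => rw [← hez i]
    simp only [e]; group
  have hZc : ∀ z ∈ Z, ∀ x ∈ D, x * z = z * x := fun z hz => ((hZmem z).mp hz).2
  have hprod : d 0 * d 1 * d 2 * d 3 * d 4 = 1 := by
    simp only [hdeq]
    set z := P x₀ with hz
    have hzi : ∀ i t, z * (e i x₀ * t) = e i x₀ * (z * t) := fun i t => by
      rw [← mul_assoc, ← hZc z hPZ _ (heD i hx₀), mul_assoc]
    have hzz : ∀ t, z * (z * t) = t := fun t => by rw [← mul_assoc, hZsq z hPZ, one_mul]
    have : e 0 x₀ * z * (e 1 x₀ * z) * (e 2 x₀ * z) * (e 3 x₀ * z) * (e 4 x₀ * z) = P x₀ * z := by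
      simp only [P, mul_assoc, hzi, hzz]
    rw [this, ← hz, hZsq z hPZ]
  -- commutators
  have hcommZ : ∀ i j, (d i * d j)⁻¹ * (d j * d i) ∈ Z := fun i j => by
    rw [← hqz]
    show (q (d i) * q (d j))⁻¹ * (q (d j) * q (d i)) = 1
    rw [hab _ (hmemV (hdD i)) _ (hmemV (hdD j)), inv_mul_cancel]
  set u := (d 0 * d 1)⁻¹ * (d 1 * d 0) with hu
  set v := (d 0 * d 2)⁻¹ * (d 2 * d 0) with hv
  have huZ : u ∈ Z := hcommZ 0 1
  have hvZ : v ∈ Z := hcommZ 0 2
  have hdsucc : ∀ i, d (i + 1) = s⁻¹ * d i * s := fun i => he_succ i d₀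
  have hsw1 : ∀ i, d (i + 1) * d i = d i * d (i + 1) * u := by
    intro i
    induction i with
    | zero => rw [hu]; group
    | succ i ih =>
      calc d (i + 1 + 1) * d (i + 1) = s⁻¹ * (d (i + 1) * d i) * s := by
            rw [hdsucc (i + 1)]; conv_lhs => arg 2; rw [hdsucc i]
            group
        _ = s⁻¹ * d i * s * (s⁻¹ * d (i + 1) * s) * (s⁻¹ * u * s) := by rw [ih]; group
        _ = _ := by rw [← hdsucc, ← hdsucc, show s⁻¹ * u * s = u from hcZ u huZ]
  have hsw2 : ∀ i, d (i + 2) * d i = d i * d (i + 2) * v := by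
    intro i
    induction i with
    | zero => rw [hv]; group
    | succ i ih =>
      calc d (i + 1 + 2) * d (i + 1) = s⁻¹ * (d (i + 2) * d i) * s := by
            rw [show i + 1 + 2 = i + 2 + 1 by omega, hdsucc (i + 2), hdsucc i]
            group
        _ = s⁻¹ * d i * s * (s⁻¹ * d (i + 2) * s) * (s⁻¹ * v * s) := by rw [ih]; group
        _ = _ := by rw [← hdsucc, ← hdsucc, show s⁻¹ * v * s = v from hcZ v hvZ,
              show i + 2 + 1 = i + 1 + 2 by omega]
  have hsqZ : d 0 * d 0 ∈ Z := by rw [← hqz, map_mul]; exact hexp _ (hmemV (hdD 0))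
  have hsqall : ∀ i, d i * d i = d 0 * d 0 := by
    intro i
    induction i with
    | zero => rfl
    | succ i ih =>
      rw [hdsucc, show s⁻¹ * d i * s * (s⁻¹ * d i * s) = s⁻¹ * (d i * d i) * s by group, ih]
      exact hcZ _ hsqZ
  have hcu : ∀ i, u * d i = d i * u := fun i => (hZc u huZ _ (hdD i)).symm
  have hcv : ∀ i, v * d i = d i * v := fun i => (hZc v hvZ _ (hdD i)).symm
  have hvu : v * u = u * v := (hZc u huZ _ (hZD hvZ))
  have hd5 : d 5 = d 0 := he5 d₀
  -- the square
  have hw : d 0 * d 0 = u * v := by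
    set w := d 0 * d 0 with hwdef
    have hcw : ∀ i, w * d i = d i * w := fun i => (hZc w hsqZ _ (hdD i)).symm
    have hu1 : ∀ i t, u * (d i * t) = d i * (u * t) := fun i t => by rw [← mul_assoc, hcu, mul_assoc]
    have hv1 : ∀ i t, v * (d i * t) = d i * (v * t) := fun i t => by rw [← mul_assoc, hcv, mul_assoc]
    have hw1 : ∀ i t, w * (d i * t) = d i * (w * t) := fun i t => by rw [← mul_assoc, hcw, mul_assoc]
    have s10 : ∀ t, d 1 * (d 0 * t) = d 0 * (d 1 * (u * t)) := fun t => by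
      rw [← mul_assoc, hsw1 0, mul_assoc, mul_assoc]
    have s21 : ∀ t, d 2 * (d 1 * t) = d 1 * (d 2 * (u * t)) := fun t => by
      rw [← mul_assoc, hsw1 1, mul_assoc, mul_assoc]
    have s32 : ∀ t, d 3 * (d 2 * t) = d 2 * (d 3 * (u * t)) := fun t => by
      rw [← mul_assoc, hsw1 2, mul_assoc, mul_assoc]
    have s20 : ∀ t, d 2 * (d 0 * t) = d 0 * (d 2 * (v * t)) := fun t => by
      rw [← mul_assoc, hsw2 0, mul_assoc, mul_assoc]
    have s31 : ∀ t, d 3 * (d 1 * t) = d 1 * (d 3 * (v * t)) := fun t => by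
      rw [← mul_assoc, hsw2 1, mul_assoc, mul_assoc]
    have hq : ∀ i t, d i * (d i * t) = w * t := fun i t => by rw [← mul_assoc, hsqall]
    have h03 : d 0 * d 3 = d 3 * d 0 * v := by
      have := hsw2 3; rwa [show 3 + 2 = 5 from rfl, hd5] at this
    have s30 : ∀ t, d 3 * (d 0 * t) = d 0 * (d 3 * (v * t)) := fun t => by
      have : d 3 * d 0 = d 0 * d 3 * v := by rw [h03, mul_assoc _ v v, hZsq v hvZ, mul_one]
      rw [← mul_assoc, this, mul_assoc, mul_assoc]
    have huu : ∀ t, u * (u * t) = t := fun t => by rw [← mul_assoc, hZsq u huZ, one_mul]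
    have hvv : ∀ t, v * (v * t) = t := fun t => by rw [← mul_assoc, hZsq v hvZ, one_mul]
    have hww : ∀ t, w * (w * t) = t := fun t => by rw [← mul_assoc, hZsq w hsqZ, one_mul]
    have hvu1 : ∀ t, v * (u * t) = u * (v * t) := fun t => by rw [← mul_assoc, hvu, mul_assoc]
    have hwu1 : ∀ t, w * (u * t) = u * (w * t) := fun t => by
      rw [← mul_assoc, ← hZc w hsqZ u (hZD huZ), mul_assoc]
    have hwv1 : ∀ t, w * (v * t) = v * (w * t) := fun t => by
      rw [← mul_assoc, ← hZc w hsqZ v (hZD hvZ), mul_assoc]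
    have h4 : (d 0 * d 1 * d 2 * d 3) * (d 0 * d 1 * d 2 * d 3) * w = 1 := by
      have e1 : d 4 = (d 0 * d 1 * d 2 * d 3)⁻¹ := (inv_eq_of_mul_eq_one_right hprod).symm
      rw [← hsqall 4, e1]; group
    have h5 : (d 0 * d 1 * d 2 * d 3) * (d 0 * d 1 * d 2 * d 3) * w = u * (v * (w * 1)) := by
      conv_lhs => rw [← mul_one w]
      simp only [mul_assoc, hu1, hv1, hw1, s10, s21, s32, s20, s31, s30, hq, huu, hvv, hww, hvu1, hwu1, hwv1]
    rw [h5, mul_one, ← mul_assoc] at h4
    have := eq_inv_of_mul_eq_one_right h4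
    rw [this, inv_eq_of_mul_eq_one_right (hZsq (u * v) (mul_mem huZ hvZ))]
  -- generation
  let C : Subgroup G := Subgroup.closure ({d 0, s} : Set G)
  have hsC : s ∈ C := Subgroup.subset_closure (Or.inr rfl)
  have hdC : ∀ i, d i ∈ C := by
    intro i
    induction i with
    | zero => exact Subgroup.subset_closure (Or.inl rfl)
    | succ i ih => rw [hdsucc]; exact mul_mem (mul_mem (inv_mem hsC) ih) hsC
  let M : Subgroup G := Subgroup.closure (Set.range d)
  have hMC : M ≤ C := (Subgroup.closure_le _).mpr (by rintro _ ⟨i, rfl⟩; exact hdC i)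
  have hMD : M ≤ D := (Subgroup.closure_le _).mpr (by rintro _ ⟨i, rfl⟩; exact hdD i)
  have hMc : ∀ x ∈ M, s⁻¹ * x * s ∈ M := by
    intro x hx
    have hle : M ≤ M.comap (MulAut.conj s⁻¹).toMonoidHom := (Subgroup.closure_le _).mpr (by
      rintro _ ⟨i, rfl⟩
      show s⁻¹ * d i * s⁻¹⁻¹ ∈ M
      rw [inv_inv, ← hdsucc]
      exact Subgroup.subset_closure ⟨_, rfl⟩)
    simpa using hle hx
  have hMV : M.map q = commutator (G ⧸ Z) := by
    refine hirr _ (by rw [hV]; exact Subgroup.map_mono hMD) ?_ ?_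
    · rintro _ ⟨x, hx, rfl⟩
      rw [← map_inv, ← map_mul, ← map_mul]
      exact Subgroup.mem_map_of_mem q (hMc x hx)
    · intro hbot
      have : q (d 0) ∈ M.map q := Subgroup.mem_map_of_mem q (Subgroup.subset_closure ⟨0, rfl⟩)
      rw [hbot, Subgroup.mem_bot, hqz] at this
      exact hd₀Z (by simpa [d, e] using this)
  -- every element of `D` is in `M Z`, so commutators lie in `M`
  have hDMZ : ∀ x ∈ D, ∃ m ∈ M, ∃ z ∈ Z, x = m * z := by
    intro x hx
    have : q x ∈ M.map q := hMV ▸ hmemV hx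
    obtain ⟨m, hm, he⟩ := this
    exact ⟨m, hm, m⁻¹ * x, by rw [← hqz, map_mul, map_inv, he, inv_mul_cancel], by group⟩
  have hMnorm : ∀ g : G, ∀ x ∈ M, g * x * g⁻¹ ∈ M := by
    have hdecomp : ∀ g : G, ∃ y ∈ D, ∃ k : ℤ, g = y * s ^ k := by
      intro g
      have htop : D ⊔ Subgroup.zpowers s = ⊤ := by
        refine Subgroup.eq_top_of_le_card _ ?_
        have h64 : 64 ∣ Nat.card ↥(D ⊔ Subgroup.zpowers s) := hD ▸ Subgroup.card_dvd_of_le le_sup_left
        have h5 : 5 ∣ Nat.card ↥(D ⊔ Subgroup.zpowers s) := by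
          rw [← hs, ← Nat.card_zpowers]; exact Subgroup.card_dvd_of_le le_sup_right
        rw [hG]
        exact Nat.le_of_dvd Nat.card_pos (Nat.Coprime.mul_dvd_of_dvd_of_dvd (by norm_num) h64 h5 : 64 * 5 ∣ _)
      have hg : g ∈ (↑(D ⊔ Subgroup.zpowers s) : Set G) := htop ▸ Set.mem_univ g
      rw [Subgroup.normal_mul, Set.mem_mul] at hg
      obtain ⟨y, hy, p, ⟨k, rfl⟩, rfl⟩ := hg
      exact ⟨y, hy, k, rfl⟩
    have hsn : s ∈ Subgroup.normalizer (M : Set G) := by
      have : s⁻¹ ∈ Subgroup.normalizer (M : Set G) := by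
        rw [Subgroup.mem_normalizer_iff_map_conj_eq]
        refine Subgroup.eq_of_le_of_card_ge ?_ (Nat.card_congr (Subgroup.equivMapOfInjective M _
          (MulAut.conj s⁻¹).injective).toEquiv).le
        rintro _ ⟨x, hx, rfl⟩
        simpa using hMc x hx
      simpa using inv_mem this
    intro g x hx
    obtain ⟨y, hy, k, rfl⟩ := hdecomp g
    have hyn : y ∈ Subgroup.normalizer (M : Set G) := by
      obtain ⟨m, hm, z, hz, rfl⟩ := hDMZ y hy
      refine mul_mem (Subgroup.le_normalizer hm) (Subgroup.mem_normalizer_iff.mpr fun w => ?_)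
      have key : ∀ w ∈ M, z * w = w * z := fun w hw => (hZc z hz w (hMD hw)).symm
      constructor
      · intro hw; rw [key w hw, mul_inv_cancel_right]; exact hw
      · intro hw
        have h1 := key _ hw
        have : z * w * z⁻¹ = w := by
          have h2 : z * (z * w * z⁻¹) * z⁻¹ = z * w * z⁻¹ := by rw [h1, mul_inv_cancel_right]
          exact (mul_left_cancel (mul_right_cancel h2))
        rwa [this] at hw
    exact (Subgroup.mem_normalizer_iff.mp (mul_mem hyn (zpow_mem hsn k)) x).mp hx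
  have hCD : D ≤ M := by
    haveI : M.Normal := ⟨fun x hx g => hMnorm g x hx⟩
    have hcommq : ∀ a b : G ⧸ M, Commute a b := by
      have hgen : ∀ a : G, ∃ z ∈ Z, ∃ k : ℤ, (a : G ⧸ M) = ((z * s ^ k : G) : G ⧸ M) := by
        intro a
        have htop : D ⊔ Subgroup.zpowers s = ⊤ := by
          refine Subgroup.eq_top_of_le_card _ ?_
          have h64 : 64 ∣ Nat.card ↥(D ⊔ Subgroup.zpowers s) := hD ▸ Subgroup.card_dvd_of_le le_sup_left
          have h5 : 5 ∣ Nat.card ↥(D ⊔ Subgroup.zpowers s) := by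
            rw [← hs, ← Nat.card_zpowers]; exact Subgroup.card_dvd_of_le le_sup_right
          rw [hG]
          exact Nat.le_of_dvd Nat.card_pos (Nat.Coprime.mul_dvd_of_dvd_of_dvd (by norm_num) h64 h5 : 64 * 5 ∣ _)
        have hg : a ∈ (↑(D ⊔ Subgroup.zpowers s) : Set G) := htop ▸ Set.mem_univ a
        rw [Subgroup.normal_mul, Set.mem_mul] at hg
        obtain ⟨y, hy, p, ⟨k, rfl⟩, rfl⟩ := hg
        obtain ⟨m, hm, z, hz, rfl⟩ := hDMZ y hy
        refine ⟨z, hz, k, ?_⟩
        rw [mul_assoc, QuotientGroup.mk_mul, (QuotientGroup.eq_one_iff m).mpr hm, one_mul]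
      intro a b
      obtain ⟨a, rfl⟩ := QuotientGroup.mk_surjective a
      obtain ⟨b, rfl⟩ := QuotientGroup.mk_surjective b
      obtain ⟨z, hz, k, hk⟩ := hgen a
      obtain ⟨z', hz', k', hk'⟩ := hgen b
      rw [hk, hk']
      have hzs : ∀ w ∈ Z, Commute w s := fun w hw => by
        show w * s = s * w
        have := hcZ w hw
        calc w * s = s * (s⁻¹ * w * s) := by group
          _ = s * w := by rw [show s⁻¹ * w * s = w from this]
      have hzz : Commute z z' := (hZc z' hz' z (hZD hz))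
      have h1 : Commute (z * s ^ k) (z' * s ^ k') :=
        Commute.mul_left (hzz.mul_right ((hzs z hz).zpow_right k'))
          ((((hzs z' hz').zpow_right k).symm).mul_right (Commute.zpow_zpow_self s k k'))
      exact h1.map (QuotientGroup.mk' M)
    conv_lhs => rw [hDdef, commutator_def]
    rw [Subgroup.commutator_le]
    intro a _ b _
    rw [← QuotientGroup.eq_one_iff (N := M), ← QuotientGroup.mk'_apply, map_commutatorElement,
      commutatorElement_eq_one_iff_commute]
    exact hcommq _ _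
  have hgen : C = ⊤ := by
    refine Subgroup.eq_top_of_le_card _ ?_
    have h64 : 64 ∣ Nat.card C := hD ▸ Subgroup.card_dvd_of_le (hCD.trans hMC)
    have h5 : 5 ∣ Nat.card C := by
      rw [← hs, ← Nat.card_zpowers]; exact Subgroup.card_dvd_of_le (Subgroup.zpowers_le.mpr hsC)
    rw [hG]
    exact Nat.le_of_dvd Nat.card_pos (Nat.Coprime.mul_dvd_of_dvd_of_dvd (by norm_num) h64 h5 : 64 * 5 ∣ _)
  have hcomms : ∀ w ∈ Z, w * s = s * w := fun w hw => by
    have := hcZ w hw
    calc w * s = s * (s⁻¹ * w * s) := by group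
      _ = s * w := by rw [show s⁻¹ * w * s = w from this]
  exact ⟨{ s := s, d := d, u := u, v := v, d_succ := hdsucc, d_five := hd5, s_five := hs5,
           comm_u := hcu, comm_v := hcv, comm_us := hcomms u huZ, comm_vs := hcomms v hvZ, comm_vu := hvu,
           u_sq := hZsq u huZ, v_sq := hZsq v hvZ, sw1 := hsw1, sw2 := hsw2,
           sq := fun i => (hsqall i).trans hw, prod := hprod, gen := hgen, card := hG }⟩

end Cfsg.Agent.Order320
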